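import Cfsg.Prelude.Def_Transfer
import Cfsg.Agent.Eq.Def_Transfer

/-!
Covers of least size of a finite group with trivial centre by nilpotent proper subgroups,
at an abelian Sylow subgroup.
-/

set_option autoImplicit false

open Subgroup

namespace CfsgLib.MinCover

universe u

/-- A finite abelian group with a nontrivial partition has prime exponent. -/
theorem exponent_prime_of_partition {G : Type u} [Group G] [Finite G]
    (hcomm : ∀ x y : G, x * y = y * x) (𝓑 : Set (Subgroup G)) (hprop : ∀ B ∈ 𝓑, B ≠ ⊤)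
    (hcov : ∀ g : G, ∃ B ∈ 𝓑, g ∈ B) (hdisj : ∀ B ∈ 𝓑, ∀ C ∈ 𝓑, B ≠ C → B ⊓ C = ⊥) :
    (Monoid.exponent G).Prime := by
  haveI : Nontrivial G := by
    obtain ⟨B, hB, -⟩ := hcov 1
    by_contra h
    rw [not_nontrivial_iff_subsingleton] at h
    exact hprop B hB (Subsingleton.elim _ _)
  have key : ∀ x y : G, x ≠ 1 → y ≠ 1 → ∀ B ∈ 𝓑, ∀ C ∈ 𝓑, B ≠ C → x ∈ B → y ∈ C →
      orderOf y ∣ orderOf x := by
    intro x y hx _ B hB C hC hBC hxB hyC
    rw [orderOf_dvd_iff_pow_eq_one]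
    by_contra hne
    obtain ⟨E, hE, hxyE⟩ := hcov (x * y)
    have h1 : (x * y) ^ orderOf x = y ^ orderOf x := by
      rw [Commute.mul_pow (hcomm x y), pow_orderOf_eq_one, one_mul]
    have hEC : E = C := by
      by_contra h
      have h2 : y ^ orderOf x ∈ E ⊓ C := ⟨h1 ▸ pow_mem hxyE _, pow_mem hyC _⟩
      rw [hdisj E hE C hC h, mem_bot] at h2
      exact hne h2
    subst hEC
    have h3 : x ∈ B ⊓ E := ⟨hxB, by simpa using mul_mem hxyE (inv_mem hyC)⟩
    rw [hdisj B hB E hC hBC, mem_bot] at h3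
    exact hx h3
  have hsame : ∀ x y : G, x ≠ 1 → y ≠ 1 → orderOf x = orderOf y := by
    have cross : ∀ x y : G, x ≠ 1 → y ≠ 1 → ∀ B ∈ 𝓑, ∀ C ∈ 𝓑, B ≠ C → x ∈ B → y ∈ C →
        orderOf x = orderOf y := fun x y hx hy B hB C hC hBC h1 h2 =>
      Nat.dvd_antisymm (key y x hy hx C hC B hB (Ne.symm hBC) h2 h1)
        (key x y hx hy B hB C hC hBC h1 h2)
    intro x y hx hy
    obtain ⟨B, hB, hxB⟩ := hcov x
    obtain ⟨C, hC, hyC⟩ := hcov y
    by_cases hBC : B = C
    · subst hBC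
      obtain ⟨z, -, hz⟩ := SetLike.exists_of_lt (lt_top_iff_ne_top.mpr (hprop B hB))
      obtain ⟨E, hE, hzE⟩ := hcov z
      have hne : B ≠ E := fun h => hz (h ▸ hzE)
      have hz1 : z ≠ 1 := fun h => hz (h ▸ one_mem _)
      exact (cross x z hx hz1 B hB E hE hne hxB hzE).trans
        (cross y z hy hz1 B hB E hE hne hyC hzE).symm
    · exact cross x y hx hy B hB C hC hBC hxB hyC
  obtain ⟨p, hp, hd⟩ := Nat.exists_prime_and_dvd (Finite.one_lt_card (α := G)).ne'
  haveI := Fact.mk hp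
  obtain ⟨g, hg⟩ := exists_prime_orderOf_dvd_card' p hd
  have hg1 : g ≠ 1 := fun h => hp.one_lt.ne (by rw [← hg, h, orderOf_one])
  have hexp : Monoid.exponent G = p := by
    refine Nat.dvd_antisymm (Monoid.exponent_dvd.mpr fun x => ?_) (hg ▸ Monoid.order_dvd_exponent g)
    rcases eq_or_ne x 1 with rfl | hx
    · simp
    · exact dvd_of_eq ((hsame x g hx hg1).trans hg)
  exact hexp ▸ hp

/-- A cover of least size by proper subgroups, with nilpotent members. -/
structure IsNilMinCover {G : Type u} [Group G] (𝓐 : Finset (Subgroup G)) : Prop where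
  ne_top : ∀ A ∈ 𝓐, A ≠ ⊤
  covers : ∀ g : G, ∃ A ∈ 𝓐, g ∈ A
  minimal : ∀ 𝓑 : Finset (Subgroup G), (∀ A ∈ 𝓑, A ≠ ⊤) ∧ (∀ g : G, ∃ A ∈ 𝓑, g ∈ A) →
    𝓐.card ≤ 𝓑.card
  nilpotent : ∀ A ∈ 𝓐, Group.IsNilpotent A

variable {G : Type u} [Group G] [Finite G] {𝓐 : Finset (Subgroup G)} (h : IsNilMinCover 𝓐)
include h

omit [Finite G] in
lemma eq_of_le_of_le {M A A' : Subgroup G} (hM : M ≠ ⊤) (hA : A ∈ 𝓐) (hA' : A' ∈ 𝓐)
    (h1 : A ≤ M) (h2 : A' ≤ M) : A = A' := by
  classical
  by_contra hne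
  have hmin := h.minimal (insert M ((𝓐.erase A).erase A')) ⟨fun B hB => ?_, fun g => ?_⟩
  · have hc1 := Finset.card_insert_le M ((𝓐.erase A).erase A')
    have hmem : A' ∈ 𝓐.erase A := Finset.mem_erase.mpr ⟨Ne.symm hne, hA'⟩
    have hc2 := Finset.card_erase_add_one hmem
    have hc3 := Finset.card_erase_add_one hA
    omega
  · rcases Finset.mem_insert.mp hB with rfl | hB
    · exact hM
    · exact h.ne_top B (Finset.mem_of_mem_erase (Finset.mem_of_mem_erase hB))
  · obtain ⟨B, hB, hgB⟩ := h.covers g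
    by_cases hBA : B = A ∨ B = A'
    · refine ⟨M, Finset.mem_insert_self _ _, ?_⟩
      rcases hBA with rfl | rfl
      · exact h1 hgB
      · exact h2 hgB
    · push_neg at hBA
      exact ⟨B, Finset.mem_insert_of_mem (Finset.mem_erase.mpr ⟨hBA.2,
        Finset.mem_erase.mpr ⟨hBA.1, hB⟩⟩), hgB⟩

variable {p : ℕ} [hp : Fact p.Prime] (P : Sylow p G) (hab : IsMulCommutative ↥(P : Subgroup G))
include hab

/-- Members through a `p`-element centralise it. -/
lemma le_centralizer_of_mem {A : Subgroup G} (hA : A ∈ 𝓐) {z : G} (hz : z ∈ A)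
    (hzp : ∃ k, orderOf z = p ^ k) : A ≤ centralizer ({z} : Set G) := by
  haveI : Group.IsNilpotent A := h.nilpotent A hA
  obtain ⟨k, hk⟩ := hzp
  have hzP : IsPGroup p (zpowers (⟨z, hz⟩ : A)) :=
    IsPGroup.of_card (n := k) (by rw [Nat.card_zpowers, Subgroup.orderOf_mk, hk])
  obtain ⟨R, hR⟩ := hzP.exists_le_sylow
  have hcommR : ∀ a ∈ R, ∀ b ∈ R, (a : A) * b = b * a := by
    intro a ha b hb
    obtain ⟨S, hS⟩ := (R.2.map A.subtype).exists_le_sylow
    obtain ⟨g, hg⟩ := MulAction.exists_smul_eq G S P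
    have hma : g * (a : G) * g⁻¹ ∈ (P : Subgroup G) := by
      rw [← hg]; exact smul_mem_pointwise_smul _ (MulAut.conj g) _ (hS ⟨a, ha, rfl⟩)
    have hmb : g * (b : G) * g⁻¹ ∈ (P : Subgroup G) := by
      rw [← hg]; exact smul_mem_pointwise_smul _ (MulAut.conj g) _ (hS ⟨b, hb, rfl⟩)
    have := congrArg Subtype.val (hab.1.comm ⟨_, hma⟩ ⟨_, hmb⟩)
    simp only [MulMemClass.coe_mul, conj_mul] at this
    exact Subtype.ext (mul_left_cancel (mul_right_cancel this))
  let C : Subgroup A := (centralizer ({z} : Set G)).subgroupOf A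
  have hC : C = ⊤ := by
    rw [← index_eq_one]
    by_contra hne
    obtain ⟨q, hq, hd⟩ := Nat.exists_prime_and_dvd hne
    haveI := Fact.mk hq
    let Q : Sylow q A := default
    have hQC : (Q : Subgroup A) ≤ C := by
      intro x hx
      rw [Subgroup.mem_subgroupOf, mem_centralizer_singleton_iff]
      refine congrArg Subtype.val (?_ : x * (⟨z, hz⟩ : A) = (⟨z, hz⟩ : A) * x)
      by_cases hqp : q = p
      · subst hqp
        haveI := Sylow.unique_of_normal (default : Sylow q A) inferInstance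
        rw [Subsingleton.elim Q R] at hx
        exact hcommR x hx _ (hR (mem_zpowers _))
      · exact commute_of_normal_of_disjoint (Q : Subgroup A) (R : Subgroup A) inferInstance
          inferInstance (IsPGroup.disjoint_of_ne q p hqp _ _ Q.2 R.2) x _ hx (hR (mem_zpowers _))
    exact Q.not_dvd_index (hd.trans (index_dvd_of_le hQC))
  intro a ha
  have : (⟨a, ha⟩ : A) ∈ C := hC ▸ mem_top _
  exact this

variable (hZ : center G = ⊥)
include hZ

/-- A nontrivial `p`-element lies in only one member. -/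
lemma unique_member {A A' : Subgroup G} (hA : A ∈ 𝓐) (hA' : A' ∈ 𝓐) {z : G} (hz1 : z ≠ 1)
    (hzp : ∃ k, orderOf z = p ^ k) (hz : z ∈ A) (hz' : z ∈ A') : A = A' := by
  refine eq_of_le_of_le h (fun htop => hz1 ?_) hA hA' (le_centralizer_of_mem h P hab hA hz hzp)
    (le_centralizer_of_mem h P hab hA' hz' hzp)
  have : z ∈ center G := Subgroup.mem_center_iff.mpr fun g =>
    mem_centralizer_singleton_iff.mp (htop ▸ mem_top g)
  rwa [hZ, mem_bot] at this

/-- If `P` lies in no member then it is elementary abelian and noncyclic. -/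
lemma elementary_of_not_le (hno : ∀ A ∈ 𝓐, ¬ (P : Subgroup G) ≤ A) :
    Cfsg.IsElementaryAbelian p (P : Subgroup G) ∧ p < Nat.card ↥(P : Subgroup G) := by
  let 𝓑 : Set (Subgroup ↥(P : Subgroup G)) :=
    {B | ∃ A ∈ 𝓐, B = A.subgroupOf (P : Subgroup G)}
  have hexp : (Monoid.exponent ↥(P : Subgroup G)).Prime := by
    refine exponent_prime_of_partition (fun x y => hab.1.comm x y) 𝓑 ?_ ?_ ?_
    · rintro _ ⟨A, hA, rfl⟩ htop
      exact hno A hA (subgroupOf_eq_top.mp htop)
    · intro g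
      obtain ⟨A, hA, hgA⟩ := h.covers g
      exact ⟨_, ⟨A, hA, rfl⟩, hgA⟩
    · rintro _ ⟨A, hA, rfl⟩ _ ⟨A', hA', rfl⟩ hne
      rw [eq_bot_iff]
      rintro x ⟨hx, hx'⟩
      by_contra hx1
      refine hne (congrArg (fun B : Subgroup G => B.subgroupOf (P : Subgroup G))
        (unique_member h P hab hZ hA hA' (fun e => hx1 (mem_bot.mpr (Subtype.ext e))) ?_ hx hx'))
      obtain ⟨k, hk⟩ := IsPGroup.iff_orderOf.mp P.2 x
      exact ⟨k, by rw [Subgroup.orderOf_coe, hk]⟩
  have hne1 : Nat.card ↥(P : Subgroup G) ≠ 1 := fun h1 => by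
    obtain ⟨A, hA, -⟩ := h.covers 1
    exact hno A hA (by rw [card_eq_one.mp h1]; exact bot_le)
  obtain ⟨g, hg⟩ := exists_prime_orderOf_dvd_card' p (G := ↥(P : Subgroup G)) (by
    obtain ⟨k, hk⟩ := IsPGroup.iff_card.mp P.2
    rw [hk] at hne1 ⊢
    exact dvd_pow_self p (fun h0 => hne1 (by rw [h0, pow_zero])))
  have hexp' : Monoid.exponent ↥(P : Subgroup G) = p :=
    ((Nat.prime_dvd_prime_iff_eq hp.out hexp).mp
      ((dvd_of_eq hg.symm).trans (Monoid.order_dvd_exponent g))).symm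
  refine ⟨⟨hab, fun a ha => ?_⟩, ?_⟩
  · have := Monoid.pow_exponent_eq_one (⟨a, ha⟩ : ↥(P : Subgroup G))
    rw [hexp'] at this
    simpa using congrArg Subtype.val this
  · by_contra hle
    obtain ⟨A, hA, hgA⟩ := h.covers (g : G)
    refine hno A hA ?_
    have e := eq_of_le_of_card_ge (zpowers_le.mpr (mem_top g) : zpowers g ≤ ⊤) (by
      rw [card_top, Nat.card_zpowers, hg]; exact not_lt.mp hle)
    intro x hx
    obtain ⟨k, hk⟩ := mem_zpowers_iff.mp (show (⟨x, hx⟩ : ↥(P : Subgroup G)) ∈ zpowers g by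
      rw [e]; exact mem_top _)
    have := congrArg Subtype.val hk
    simp only [SubgroupClass.coe_zpow] at this
    rw [← this]; exact zpow_mem hgA k

omit h hZ in
lemma mem_sylow_of_commute {z : G} (hzp : ∃ k, orderOf z = p ^ k)
    (hz : z ∈ normalizer ((P : Subgroup G) : Set G)) : z ∈ (P : Subgroup G) := by
  obtain ⟨k, hk⟩ := hzp
  have hZp : IsPGroup p (zpowers z) := IsPGroup.of_card (n := k) (by rw [Nat.card_zpowers, hk])
  have := P.3 (IsPGroup.to_sup_of_normal_left' (K := zpowers z) P.2 hZp (zpowers_le.mpr hz))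
    (le_sup_left : (P : Subgroup G) ≤ _)
  exact this ▸ mem_sup_right (mem_zpowers z)

omit h hab hZ in
/-- A conjugate of `P` normalising `P` is `P`. -/
lemma smul_mem_normalizer {g : G}
    (hle : ((g • P : Sylow p G) : Subgroup G) ≤ normalizer ((P : Subgroup G) : Set G)) :
    g ∈ normalizer ((P : Subgroup G) : Set G) := by
  refine Sylow.smul_eq_iff_mem_normalizer.mp (Sylow.ext ?_)
  have hsup := P.3 (IsPGroup.to_sup_of_normal_left' (K := ((g • P : Sylow p G) : Subgroup G))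
    P.2 (g • P).2 hle) le_sup_left
  refine eq_of_le_of_card_ge ?_ (le_of_eq (P.card_eq_multiplicity.trans
    (g • P).card_eq_multiplicity.symm))
  exact le_sup_right.trans hsup.le

variable (hne : (P : Subgroup G) ≠ ⊥)
include hne

/-- If `P` lies in a member, that member is `C(P)`. -/
lemma eq_centralizer_of_le {A : Subgroup G} (hA : A ∈ 𝓐) (hPA : (P : Subgroup G) ≤ A) :
    centralizer ((P : Subgroup G) : Set G) = A := by
  have hord : ∀ {z : G}, z ∈ (P : Subgroup G) → ∃ k, orderOf z = p ^ k := fun {z} hz => by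
    obtain ⟨k, hk⟩ := IsPGroup.iff_orderOf.mp P.2 ⟨z, hz⟩
    exact ⟨k, by rwa [Subgroup.orderOf_mk] at hk⟩
  apply le_antisymm
  · intro y hy
    obtain ⟨a, m, hm, hn⟩ :=
      Nat.exists_eq_pow_mul_and_not_dvd (orderOf_pos y).ne' p hp.out.ne_one
    obtain ⟨⟨z, hzP⟩, hz1'⟩ := (P : Subgroup G).ne_bot_iff_exists_ne_one.mp hne
    have hz1 : z ≠ 1 := fun e => hz1' (Subtype.ext e)
    have hcop : Nat.Coprime (p ^ a) m :=
      Nat.Coprime.pow_left a (hp.out.coprime_iff_not_dvd.mpr hm)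
    -- `y ^ m` is a `p`-element centralising `P`
    have hym : y ^ m ∈ (P : Subgroup G) := by
      refine mem_sylow_of_commute P hab ?_
        (pow_mem (centralizer_le_normalizer _ hy) m)
      exact (Nat.dvd_prime_pow hp.out).mp (orderOf_dvd_of_pow_eq_one
        (show (y ^ m) ^ p ^ a = 1 by rw [← pow_mul, mul_comm, ← hn, pow_orderOf_eq_one]))
        |>.imp fun k hk => hk.2
    set w := y ^ p ^ a with hw
    have hwz : Commute z w := by
      refine Commute.pow_right ?_ _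
      exact hy z hzP
    obtain ⟨A', hA', hzw⟩ := h.covers (z * w)
    obtain ⟨k, hk⟩ := hord hzP
    have hwm : w ^ m = 1 := by rw [hw, ← pow_mul, ← hn, pow_orderOf_eq_one]
    have hzA' : z ∈ A' := by
      have h1 : (z * w) ^ m = z ^ m := by rw [hwz.mul_pow, hwm, mul_one]
      have hcop' : Nat.Coprime (orderOf z) m :=
        hk ▸ Nat.Coprime.pow_left k (hp.out.coprime_iff_not_dvd.mpr hm)
      obtain ⟨s, hs⟩ := exists_pow_eq_self_of_coprime hcop'.symm
      rw [← hs, ← h1]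
      exact pow_mem (pow_mem hzw m) s
    have hAA' := unique_member h P hab hZ hA hA' hz1 (hord hzP) (hPA hzP) hzA'
    subst hAA'
    have hwA : w ∈ A := by simpa using mul_mem (inv_mem hzA') hzw
    have hb : ((p ^ a : ℕ) : ℤ) * Nat.gcdA (p ^ a) m + (m : ℤ) * Nat.gcdB (p ^ a) m = 1 := by
      rw [← Nat.gcd_eq_gcd_ab, hcop.gcd_eq_one]; rfl
    rw [← zpow_one y, ← hb, zpow_add, zpow_mul, zpow_mul, zpow_natCast, zpow_natCast]
    exact mul_mem (zpow_mem hwA _) (zpow_mem (hPA hym) _)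
  · intro a ha z hz
    exact (mem_centralizer_singleton_iff.mp
      (le_centralizer_of_mem h P hab hA (hPA hz) (hord hz) ha)).symm

/-- A maximal subgroup over `C(P)` normalises `P`, provided every conjugate of `P` lies in a
member. -/
lemma coatom_eq_normalizer (hnn : ¬ (P : Subgroup G).Normal)
    (hall : ∀ g : G, ∃ A ∈ 𝓐, ((g • P : Sylow p G) : Subgroup G) ≤ A)
    {M : Subgroup G} (hM : IsCoatom M) (hCM : centralizer ((P : Subgroup G) : Set G) ≤ M) :
    M = normalizer ((P : Subgroup G) : Set G) := by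
  by_cases hle : M ≤ normalizer ((P : Subgroup G) : Set G)
  · rcases eq_or_lt_of_le hle with he | hlt
    · exact he
    · exact absurd (normalizer_eq_top_iff.mp (hM.2 _ hlt)) hnn
  exfalso
  obtain ⟨m, hmM, hm⟩ := SetLike.not_le_iff_exists.mp hle
  obtain ⟨A, hA, hPA⟩ := hall 1
  rw [one_smul] at hPA
  obtain ⟨A', hA', hPA'⟩ := hall m
  have hAC := eq_centralizer_of_le h P hab hZ hne hA hPA
  have hab' : IsMulCommutative ↥((m • P : Sylow p G) : Subgroup G) := by
    refine ⟨⟨?_⟩⟩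
    rintro ⟨_, x, hx, rfl⟩ ⟨_, y, hy, rfl⟩
    have := congrArg (fun w : ↥(P : Subgroup G) => MulAut.conj m (w : G))
      (hab.1.comm ⟨x, hx⟩ ⟨y, hy⟩)
    exact Subtype.ext (by simpa using this)
  have hne' : ((m • P : Sylow p G) : Subgroup G) ≠ ⊥ := fun e => hne (by
    rw [eq_bot_iff]; intro x hx
    have : MulAut.conj m x ∈ ((m • P : Sylow p G) : Subgroup G) := ⟨x, hx, rfl⟩
    rw [e, mem_bot] at this
    exact mem_bot.mpr ((MulAut.conj m).injective (this.trans (map_one _).symm)))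
  have hA'C := eq_centralizer_of_le h (m • P) hab' hZ hne' hA' hPA'
  have hA'M : A' ≤ M := by
    rw [← hA'C]
    intro x hx
    have hmem : m⁻¹ * x * m ∈ centralizer ((P : Subgroup G) : Set G) := by
      intro y hy
      have e := hx (m * y * m⁻¹) ⟨y, hy, rfl⟩
      calc y * (m⁻¹ * x * m) = m⁻¹ * ((m * y * m⁻¹) * x) * m := by group
        _ = m⁻¹ * (x * (m * y * m⁻¹)) * m := by rw [e]
        _ = m⁻¹ * x * m * y := by group
    simpa [mul_assoc] using mul_mem (mul_mem hmM (hCM hmem)) (inv_mem hmM)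
  have hAA' := eq_of_le_of_le h hM.1 hA hA' (hAC ▸ hCM) hA'M
  subst hAA'
  exact hm (smul_mem_normalizer P (hPA'.trans (hAC ▸ centralizer_le_normalizer _)))

/-- `N(P)` is maximal, and the only maximal subgroup over `C(P)`. -/
lemma isCoatom_normalizer (hnn : ¬ (P : Subgroup G).Normal)
    (hall : ∀ g : G, ∃ A ∈ 𝓐, ((g • P : Sylow p G) : Subgroup G) ≤ A) :
    IsCoatom (normalizer ((P : Subgroup G) : Set G)) := by
  rcases eq_top_or_exists_le_coatom (normalizer ((P : Subgroup G) : Set G)) with h' | ⟨M, hM, hle⟩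
  · exact absurd (normalizer_eq_top_iff.mp h') hnn
  · rwa [← coatom_eq_normalizer h P hab hZ hne hnn hall hM ((centralizer_le_normalizer _).trans hle)]

/-- `N(P)` meets its other conjugates in `p'`-groups. -/
lemma not_dvd_card_inf {A : Subgroup G} (hA : A ∈ 𝓐) (hPA : (P : Subgroup G) ≤ A)
    (hall : ∀ g : G, ∃ A ∈ 𝓐, ((g • P : Sylow p G) : Subgroup G) ≤ A)
    {g : G} (hg : g ∉ normalizer ((P : Subgroup G) : Set G)) :
    ¬ p ∣ Nat.card ↥(normalizer ((P : Subgroup G) : Set G) ⊓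
      (normalizer ((P : Subgroup G) : Set G)).map (MulAut.conj g).toMonoidHom) := by
  intro hd
  obtain ⟨z, hz⟩ := exists_prime_orderOf_dvd_card' p hd
  have hzp : ∃ k, orderOf (z : G) = p ^ k := ⟨1, by rw [Subgroup.orderOf_coe, hz, pow_one]⟩
  have hz1 : (z : G) ≠ 1 := fun e => by
    have := Subgroup.orderOf_coe z
    rw [e, orderOf_one, hz] at this
    exact hp.out.one_lt.ne this
  have hzP : (z : G) ∈ (P : Subgroup G) := mem_sylow_of_commute P hab hzp z.2.1
  obtain ⟨w, hw, hwz⟩ := z.2.2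
  change g * w * g⁻¹ = (z : G) at hwz
  have hwP : w ∈ (P : Subgroup G) := by
    refine mem_sylow_of_commute P hab ?_ hw
    obtain ⟨k, hk⟩ := hzp
    refine ⟨k, ?_⟩
    rw [← hk, ← hwz]
    exact ((MulAut.conj g).orderOf_eq w).symm
  have hAC := eq_centralizer_of_le h P hab hZ hne hA hPA
  obtain ⟨A', hA', hPA'⟩ := hall g
  have hzgP : (z : G) ∈ ((g • P : Sylow p G) : Subgroup G) := ⟨w, hwP, hwz⟩
  have h2 := unique_member h P hab hZ hA hA' hz1 hzp (hPA hzP) (hPA' hzgP)
  subst h2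
  exact hg (smul_mem_normalizer P (hPA'.trans (hAC ▸ centralizer_le_normalizer _)))

end CfsgLib.MinCover
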