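import Cfsg.Agent.MinCover.Basic

/-!
Two non-commuting elements of coprime orders whose nilpotent overgroups lie in one proper subgroup
exclude a minimal cover by nilpotent subgroups.
-/

set_option autoImplicit false

open Subgroup

namespace CfsgLib.MinCover

universe u v

/-- Every nilpotent subgroup containing `x` lies in `M`. -/
def NilForced {G : Type u} [Group G] (x : G) (M : Subgroup G) : Prop :=
  ∀ A : Subgroup G, Group.IsNilpotent A → x ∈ A → A ≤ M

variable {G : Type u} [Group G]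

lemma nilForced_map {H : Type v} [Group H] (e : G ≃* H) {x : G} {M : Subgroup G}
    (h : NilForced x M) : NilForced (e x) (M.map e.toMonoidHom) := by
  intro A hA hx a ha
  haveI := hA
  let g : ↥(A.comap e.toMonoidHom) →* A :=
    { toFun := fun z => ⟨e (z : G), z.2⟩
      map_one' := Subtype.ext (by simp)
      map_mul' := fun z w => Subtype.ext (map_mul e (z : G) (w : G)) }
  have hinj : Function.Injective g := fun z w hzw =>
    Subtype.ext (e.injective (congrArg Subtype.val hzw))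
  haveI : Group.IsNilpotent ↥(A.comap e.toMonoidHom) :=
    Group.nilpotent_of_mulEquiv (MonoidHom.ofInjective hinj).symm
  refine ⟨e.symm a, h _ ‹_› hx ?_, e.apply_symm_apply a⟩
  show e (e.symm a) ∈ A
  rwa [e.apply_symm_apply]

/-- Elements of coprime orders of a nilpotent finite group commute. -/
lemma commute_of_coprime [Finite G] {A : Subgroup G} [Group.IsNilpotent A] {x y : G} (hx : x ∈ A)
    (hy : y ∈ A) {r k : ℕ} [hr : Fact r.Prime] (hxk : orderOf x = r ^ k)
    (hy' : ¬ r ∣ orderOf y) : x * y = y * x := by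
  let R : Sylow r A := default
  have hxR : (⟨x, hx⟩ : A) ∈ (R : Subgroup A) := by
    have hp : IsPGroup r (zpowers (⟨x, hx⟩ : A)) :=
      IsPGroup.of_card (n := k) (by rw [Nat.card_zpowers, Subgroup.orderOf_mk, hxk])
    obtain ⟨T, hT⟩ := hp.exists_le_sylow
    haveI := Sylow.unique_of_normal R inferInstance
    rw [Subsingleton.elim T R] at hT
    exact hT (mem_zpowers _)
  let C : Subgroup A := centralizer ((R : Subgroup A) : Set A)
  obtain ⟨j, hj⟩ : ∃ j, C.index = r ^ j := by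
    refine ⟨_, Nat.eq_prime_pow_of_unique_prime_dvd index_ne_zero_of_finite fun {s} hs hd => ?_⟩
    by_contra hne
    haveI := Fact.mk hs
    let S : Sylow s A := default
    have hSC : (S : Subgroup A) ≤ C := fun a ha b hb =>
      (commute_of_normal_of_disjoint (R : Subgroup A) (S : Subgroup A) inferInstance inferInstance
        (IsPGroup.disjoint_of_ne r s (Ne.symm hne) _ _ R.2 S.2) b a hb ha).eq
    exact S.not_dvd_index (hd.trans (index_dvd_of_le hSC))
  have hCn : C.Normal := inferInstance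
  have hyj : (⟨y, hy⟩ : A) ^ r ^ j ∈ C := hj ▸ C.pow_index_mem _
  have hcop : (r ^ j).Coprime (orderOf (⟨y, hy⟩ : A)) := by
    rw [Subgroup.orderOf_mk]
    exact Nat.Coprime.pow_left j (hr.out.coprime_iff_not_dvd.mpr hy')
  obtain ⟨s, hs⟩ := exists_pow_eq_self_of_coprime hcop
  have : (⟨y, hy⟩ : A) ∈ C := hs ▸ pow_mem hyj s
  exact congrArg Subtype.val (this _ hxR)

/-- The criterion. -/
theorem no_cover_of_two [Finite G] {M : Subgroup G} (hM : M ≠ ⊤) {x y : G} {r k : ℕ}
    [Fact r.Prime] (hxk : orderOf x = r ^ k) (hy' : ¬ r ∣ orderOf y) (hxy : x * y ≠ y * x)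
    (hx : NilForced x M) (hy : NilForced y M) :
    ¬ ∃ 𝓐 : Finset (Subgroup G), ((∀ A ∈ 𝓐, A ≠ ⊤) ∧ (∀ g : G, ∃ A ∈ 𝓐, g ∈ A)) ∧
      (∀ 𝓑 : Finset (Subgroup G), (∀ A ∈ 𝓑, A ≠ ⊤) ∧ (∀ g : G, ∃ A ∈ 𝓑, g ∈ A) →
        𝓐.card ≤ 𝓑.card) ∧ (∀ A ∈ 𝓐, Group.IsNilpotent ↥A) := by
  rintro ⟨𝓐, ⟨hne, hcov⟩, hmin, hnil⟩
  have h : IsNilMinCover 𝓐 := ⟨hne, hcov, hmin, hnil⟩
  obtain ⟨A, hA, hxA⟩ := hcov x
  obtain ⟨B, hB, hyB⟩ := hcov y
  obtain rfl := eq_of_le_of_le h hM hA hB (hx A (hnil A hA) hxA) (hy B (hnil B hB) hyB)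
  haveI := hnil A hA
  exact hxy (commute_of_coprime hxA hyB hxk hy')

section Action

variable {Ω : Type v} [MulAction G Ω]

/-- An element of prime power order with at most two fixed points, one of which its centraliser
fixes, forces its nilpotent overgroups into the stabiliser of that point. -/
theorem nilForced_stabilizer [Finite G] [Finite Ω] {x : G} {r k : ℕ} [hr : Fact r.Prime]
    (hxk : orderOf x = r ^ k) (hΩ : ¬ r ∣ Nat.card Ω) {v w : Ω}
    (hfix : ∀ ω, x • ω = ω → ω = v ∨ ω = w) (hcomm : ∀ g : G, g * x = x * g → g • v = v) :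
    NilForced x (MulAction.stabilizer G v) := by
  intro A hA hxA
  haveI := hA
  have hxv : x • v = v := hcomm x rfl
  let R : Sylow r A := default
  have hRn : (R : Subgroup A).Normal := inferInstance
  have hxR : (⟨x, hxA⟩ : A) ∈ (R : Subgroup A) := by
    have hp : IsPGroup r (zpowers (⟨x, hxA⟩ : A)) :=
      IsPGroup.of_card (n := k) (by rw [Nat.card_zpowers, Subgroup.orderOf_mk, hxk])
    obtain ⟨T, hT⟩ := hp.exists_le_sylow
    haveI := Sylow.unique_of_normal R inferInstance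
    rw [Subsingleton.elim T R] at hT
    exact hT (mem_zpowers _)
  have hRv : ∀ a ∈ (R : Subgroup A), (a : G) • v = v := by
    obtain ⟨ω, hω⟩ := R.2.nonempty_fixed_point_of_prime_not_dvd_card Ω hΩ
    have hω' : ∀ a ∈ (R : Subgroup A), (a : G) • ω = ω := fun a ha => hω ⟨a, ha⟩
    rcases hfix ω (hω' _ hxR) with rfl | rfl
    · exact hω'
    let H : Subgroup ↥(R : Subgroup A) := MulAction.stabilizer ↥(R : Subgroup A) v
    haveI : Group.IsNilpotent ↥(R : Subgroup A) := R.2.isNilpotent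
    suffices hH : H = ⊤ by
      intro a ha
      have : (⟨a, ha⟩ : ↥(R : Subgroup A)) ∈ H := hH ▸ mem_top _
      exact this
    by_contra hne
    have hlt := Group.normalizerCondition_of_isNilpotent (G := ↥(R : Subgroup A)) H
      (lt_top_iff_ne_top.mpr hne)
    obtain ⟨a, haN, haH⟩ := SetLike.exists_of_lt hlt
    refine haH ?_
    have hx' : (⟨⟨x, hxA⟩, hxR⟩ : ↥(R : Subgroup A)) ∈ H := hxv
    have h2 : a⁻¹ * ⟨⟨x, hxA⟩, hxR⟩ * a ∈ H := by
      have := (mem_normalizer_iff.mp haN (a⁻¹ * ⟨⟨x, hxA⟩, hxR⟩ * a)).mpr (by simpa [mul_assoc])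
      exact this
    have h3 : x • (((a : A) : G) • v) = ((a : A) : G) • v := by
      have h2' : ((((a : A) : G))⁻¹ * x * ((a : A) : G)) • v = v := h2
      rwa [mul_smul, mul_smul, inv_smul_eq_iff] at h2'
    show ((a : A) : G) • v = v
    rcases hfix _ h3 with h | h
    · exact h
    · rw [h]
      exact MulAction.injective ((a : A) : G) ((hω' _ a.2).trans h.symm)
  intro a ha
  obtain ⟨e, m, hm, hn⟩ :=
    Nat.exists_eq_pow_mul_and_not_dvd (orderOf_pos a).ne' r hr.out.ne_one
  have hcop : Nat.Coprime (r ^ e) m :=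
    Nat.Coprime.pow_left e (hr.out.coprime_iff_not_dvd.mpr hm)
  have h1 : a ^ m ∈ MulAction.stabilizer G v := by
    have hp : IsPGroup r (zpowers ((⟨a, ha⟩ : A) ^ m)) := by
      obtain ⟨i, -, hi⟩ := (Nat.dvd_prime_pow hr.out).mp (orderOf_dvd_of_pow_eq_one
        (show ((⟨a, ha⟩ : A) ^ m) ^ r ^ e = 1 by
          rw [← pow_mul, mul_comm, ← hn]
          exact Subtype.ext (pow_orderOf_eq_one a)))
      exact IsPGroup.of_card (n := i) (by rw [Nat.card_zpowers, hi])
    obtain ⟨T, hT⟩ := hp.exists_le_sylow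
    haveI := Sylow.unique_of_normal R inferInstance
    rw [Subsingleton.elim T R] at hT
    exact hRv _ (hT (mem_zpowers _))
  have h2 : a ^ r ^ e ∈ MulAction.stabilizer G v := by
    refine hcomm _ (commute_of_coprime hxA (pow_mem ha _) hxk fun hd => hm ?_).symm
    refine hd.trans (orderOf_dvd_of_pow_eq_one ?_)
    rw [← pow_mul, ← hn, pow_orderOf_eq_one]
  have hb : ((r ^ e : ℕ) : ℤ) * Nat.gcdA (r ^ e) m + (m : ℤ) * Nat.gcdB (r ^ e) m = 1 := by
    rw [← Nat.gcd_eq_gcd_ab, hcop.gcd_eq_one]; rfl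
  rw [← zpow_one a, ← hb, zpow_add, zpow_mul, zpow_mul, zpow_natCast, zpow_natCast]
  exact mul_mem (zpow_mem h2 _) (zpow_mem h1 _)

/-- The case of one fixed point. -/
theorem nilForced_stabilizer_unique [Finite G] [Finite Ω] {x : G} {r k : ℕ} [Fact r.Prime]
    (hxk : orderOf x = r ^ k) (hΩ : ¬ r ∣ Nat.card Ω) {v : Ω} (hv : x • v = v)
    (hfix : ∀ ω, x • ω = ω → ω = v) : NilForced x (MulAction.stabilizer G v) :=
  nilForced_stabilizer hxk hΩ (w := v) (fun ω h => Or.inl (hfix ω h))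
    fun g hg => hfix _ (by rw [← mul_smul, ← hg, mul_smul, hv])

end Action

end CfsgLib.MinCover
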