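import Cfsg.Agent.Suzuki.Borel
import Cfsg.Agent.Suzuki.LieModel
import Cfsg.Agent.MinCover.Exchange

/-!
A translation and a torus element of a point stabiliser of the group of the ovoid have their
nilpotent overgroups in that stabiliser.
-/

set_option autoImplicit false

open scoped Matrix Pointwise

namespace CfsgLib.MinCover

open CfsgLib.Suzuki

variable {F : Type*} [Field F] {θ : F →+* F} [CharP F 2] [Finite F]

/-- The ovoid with the action of its group. -/
def ovoidSet (θ : F →+* F) : SubMulAction (grp θ) (Projectivization F (Fin 4 → F)) where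
  carrier := ovoid θ
  smul_mem' g _ hp := smul_mem_ovoid g hp

theorem suzuki_pair (hT : TitsEndo θ) :
    ∃ (M : Subgroup (grp θ)) (x y : grp θ) (r k : ℕ), M ≠ ⊤ ∧ r.Prime ∧ orderOf x = r ^ k ∧
      ¬ r ∣ orderOf y ∧ x * y ≠ y * x ∧ NilForced x M ∧ NilForced y M := by
  haveI : Finite ↥(ovoidSet θ) :=
    Finite.of_injective (fun ω : ↥(ovoidSet θ) => (ω : Projectivization F (Fin 4 → F)))
      Subtype.val_injective
  let v : ↥(ovoidSet θ) := ⟨pInf, pInf_mem θ⟩
  let w : ↥(ovoidSet θ) := ⟨pt θ 0 0, pt_mem θ 0 0⟩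
  obtain ⟨n, hn, hq⟩ := card_field (F := F)
  have hΩ : Nat.card ↥(ovoidSet θ) = Nat.card F ^ 2 + 1 := by
    rw [← ncard_ovoid (θ := θ), ← Nat.card_coe_set_eq]; rfl
  have hodd : ¬ 2 ∣ Nat.card ↥(ovoidSet θ) := by
    rw [hΩ, hq, ← pow_mul]
    intro h
    have : 2 ∣ 2 ^ (n * 2) := dvd_pow_self 2 (by omega)
    omega
  -- the translation
  obtain ⟨a, ha⟩ := IsPGroup.iff_orderOf.mp (isPGroup_uGrp hT) ⟨_, uElt_mem hT 1 0⟩
  rw [Subgroup.orderOf_mk] at ha
  haveI : Fact (Nat.Prime 2) := ⟨Nat.prime_two⟩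
  have hy : NilForced (uElt hT 1 0) (MulAction.stabilizer (grp θ) v) :=
    nilForced_stabilizer_unique ha hodd (Subtype.ext (uElt_smul_pInf hT 1 0)) fun ω h =>
      Subtype.ext (eq_pInf_of_fix hT (uElt_mem hT 1 0) (uElt_ne_one hT) ω.2
        (congrArg Subtype.val h))
  -- the torus element
  have hcard : Nat.card Fˣ = Nat.card F - 1 := Nat.card_units F
  have hq2 : 2 < Nat.card F := by
    obtain ⟨z, hz0, hz1⟩ := hT.big
    classical
    haveI := Fintype.ofFinite F
    rw [Nat.card_eq_fintype_card]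
    calc 2 < ({0, 1, z} : Finset F).card := by
          rw [Finset.card_insert_of_notMem (by simp [Ne.symm hz0]),
            Finset.card_insert_of_notMem (by simp [Ne.symm hz1]), Finset.card_singleton]
          norm_num
      _ ≤ Fintype.card F := Finset.card_le_univ _
  obtain ⟨r, hr, hrd⟩ := Nat.exists_prime_and_dvd (show Nat.card F - 1 ≠ 1 by omega)
  haveI := Fact.mk hr
  have hr2 : r ≠ 2 := by
    rintro rfl
    have : 2 ∣ Nat.card F := hq ▸ dvd_pow_self 2 (by omega)
    omega
  obtain ⟨t, ht⟩ := exists_prime_orderOf_dvd_card' (G := Fˣ) r (hcard ▸ hrd)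
  have ht1 : t ≠ 1 := fun e => hr.one_lt.ne (by rw [← ht, e, orderOf_one])
  have htord : orderOf (tElt hT t) = r ^ 1 := by
    rw [pow_one]
    refine orderOf_eq_prime ?_ ?_
    · have hpow : ∀ i : ℕ, tElt hT t ^ i = tElt hT (t ^ i) := fun i => by
        induction i with
        | zero => rw [pow_zero, pow_zero, tElt_one]
        | succ i ih => rw [pow_succ, pow_succ, ih, tElt_mul]
      rw [hpow, ← ht, pow_orderOf_eq_one, tElt_one]
    · intro e
      rw [← tElt_one hT] at e
      exact ht1 (tMat_injective (congrArg Subtype.val e))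
  have hΩr : ¬ r ∣ Nat.card ↥(ovoidSet θ) := by
    rw [hΩ]
    intro h
    have h1 : r ∣ (Nat.card F - 1) * (Nat.card F + 1) := hrd.mul_right _
    have h2 : (Nat.card F - 1) * (Nat.card F + 1) + 2 = Nat.card F ^ 2 + 1 := by
      obtain ⟨c, hc⟩ : ∃ c, Nat.card F = c + 1 := ⟨Nat.card F - 1, by omega⟩
      rw [hc]; simp only [Nat.add_sub_cancel]; ring
    rw [← h2] at h
    exact hr2 ((Nat.prime_dvd_prime_iff_eq hr Nat.prime_two).mp ((Nat.dvd_add_right h1).mp h))
  have hx : NilForced (tElt hT t) (MulAction.stabilizer (grp θ) v) := by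
    refine nilForced_stabilizer htord hΩr (w := w) (fun ω h => ?_) fun g hg => ?_
    · rcases (mem_ovoid θ).1 ω.2 with h0 | ⟨x, y, h0⟩
      · exact Or.inl (Subtype.ext h0)
      · by_cases hxy : x = 0 ∧ y = 0
        · exact Or.inr (Subtype.ext (by rw [h0, hxy.1, hxy.2]))
        · refine absurd (eq_one_of_fix_three hT hxy ?_) ht1
          have e : tElt hT t • (ω : Projectivization F (Fin 4 → F)) = ω := congrArg Subtype.val h
          rw [h0] at e
          exact e
    · apply Subtype.ext
      show g • (pInf : Projectivization F (Fin 4 → F)) = pInf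
      have hfix : ∀ {p}, p ∈ ovoid θ → tElt hT t • p = p →
          p = (pInf : Projectivization F (Fin 4 → F)) ∨ p = pt θ 0 0 := by
        intro p hp h
        rcases (mem_ovoid θ).1 hp with h0 | ⟨x, y, rfl⟩
        · exact Or.inl h0
        · by_cases hxy : x = 0 ∧ y = 0
          · exact Or.inr (by rw [hxy.1, hxy.2])
          · exact absurd (eq_one_of_fix_three hT hxy h) ht1
      have hv' : tElt hT t • (pInf : Projectivization F (Fin 4 → F)) = pInf := tMat_smul_pInf θ t
      have hw' : tElt hT t • pt θ 0 0 = pt θ 0 0 := tMat_smul_pt_zero hT t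
      rcases hfix (smul_mem_ovoid g (pInf_mem θ))
        (by rw [← mul_smul, ← hg, mul_smul, hv']) with h1 | h1
      · exact h1
      exfalso
      have h2 : g • pt θ 0 0 = (pInf : Projectivization F (Fin 4 → F)) := by
        rcases hfix (smul_mem_ovoid g (pt_mem θ 0 0))
          (by rw [← mul_smul, ← hg, mul_smul, hw']) with h2 | h2
        · exact h2
        · exact absurd (MulAction.injective g (h1.trans h2.symm)).symm (pt_ne_pInf θ 0 0)
      obtain ⟨s, hs⟩ := eq_tMat_of_fix hT (wElt hT * g).2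
        (show (wElt hT * g) • (pInf : Projectivization F (Fin 4 → F)) = pInf by
          rw [mul_smul, h1]; exact wMat_smul_pt_zero θ)
        (show (wElt hT * g) • pt θ 0 0 = pt θ 0 0 by
          rw [mul_smul, h2]; exact wMat_smul_pInf θ)
      have hg' : g = wElt hT * tElt hT s := by
        have e : wElt hT * g = tElt hT s := Subtype.ext hs
        rw [← e, ← mul_assoc, wElt_mul_self, one_mul]
      have hwt : tElt hT t * wElt hT = wElt hT * tElt hT t⁻¹ := Subtype.ext (tMat_mul_wMat t)
      rw [hg', ← mul_assoc, hwt, mul_assoc, mul_assoc, mul_right_inj, tElt_mul, tElt_mul] at hg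
      have e := tMat_injective (congrArg Subtype.val hg)
      rw [mul_comm t⁻¹] at e
      have e2 : t⁻¹ = t := (mul_left_cancel e).symm
      have e3 : t ^ 2 = 1 := by
        rw [pow_two]
        nth_rw 1 [← e2]
        rw [inv_mul_cancel]
      have h3 := orderOf_dvd_of_pow_eq_one e3
      rw [ht] at h3
      exact hr2 ((Nat.prime_dvd_prime_iff_eq hr Nat.prime_two).mp h3)
  refine ⟨MulAction.stabilizer (grp θ) v, tElt hT t, uElt hT 1 0, r, 1, ?_, hr, htord, ?_, ?_,
    hx, hy⟩
  · intro h
    have : wElt hT ∈ MulAction.stabilizer (grp θ) v := h ▸ Subgroup.mem_top _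
    exact wElt_not_mem_stabInf hT (congrArg Subtype.val this)
  · rw [ha]
    exact fun h => hr2 ((Nat.prime_dvd_prime_iff_eq hr Nat.prime_two).mp (hr.dvd_of_dvd_pow h))
  · intro h
    have e : tElt hT t * uElt hT 1 0 * (tElt hT t)⁻¹ = uElt hT 1 0 := by
      rw [h, mul_inv_cancel_right]
    rw [tElt_conj_uElt, uElt_inj] at e
    have h1 : θ (t : F) = 1 := by simpa using e.1
    exact ht1 (Units.ext (θ.injective (by rw [h1, Units.val_one, map_one])))

end CfsgLib.MinCover
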